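import Mathlib
import Groth.Agent.PurBirLib.Qf
import Groth.Agent.S10830

/-! The fibres of a desingularisation of a normal surface over singular points are curves. -/

set_option autoImplicit false
set_option linter.style.haveILetI false
set_option backward.isDefEq.respectTransparency false
set_option backward.isDefEq.respectTransparency.types false
universe u

open CategoryTheory CategoryTheory.Limits AlgebraicGeometry TopologicalSpace

noncomputable section

namespace MonoidalFibLib

theorem isClosed_singleton_of_finite {X : Type u} [TopologicalSpace X] [JacobsonSpace X] {F : Set X}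
    (hF : IsClosed F) (hfin : F.Finite) {x : X} (hx : x ∈ F) : IsClosed ({x} : Set X) := by
  haveI : JacobsonSpace F := JacobsonSpace.of_isClosedEmbedding hF.isClosedEmbedding_subtypeVal
  haveI : Finite F := hfin.to_subtype
  haveI : DiscreteTopology F := inferInstance
  simpa using hF.isClosedEmbedding_subtypeVal.isClosedMap _ (isClosed_discrete ({⟨x, hx⟩} : Set F))

theorem subsingleton_of_dim_zero {Z : Type u} [TopologicalSpace Z] [IrreducibleSpace Z] [T0Space Z]
    (h : topologicalKrullDim Z ≤ 0) : Subsingleton Z := by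
  have hz : ∀ z : Z, IsGenericPoint z Set.univ := fun z => by
    by_contra hne
    have hlt : (⟨closure {z}, isIrreducible_singleton.closure, isClosed_closure⟩ : IrreducibleCloseds Z) <
        ⟨Set.univ, IrreducibleSpace.isIrreducible_univ Z, isClosed_univ⟩ :=
      lt_of_le_of_ne (fun _ _ => trivial) fun he => hne (congrArg IrreducibleCloseds.carrier he)
    have : (1 : WithBot ℕ∞) ≤ topologicalKrullDim Z := Order.one_le_krullDim_iff.2 ⟨_, _, hlt⟩
    exact absurd (this.trans h) (by norm_num)
  exact ⟨fun a b => (hz a).eq (hz b)⟩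

theorem isOpen_singleton_of_component {F : Type u} [TopologicalSpace F] [NoetherianSpace F] {Z : Set F}
    (hZ : Z ∈ irreducibleComponents F) {y : F} (hy : Z = {y}) : IsOpen ({y} : Set F) := by
  have h : ({y} : Set F) = (⋃ W ∈ irreducibleComponents F \ {Z}, W)ᶜ := by
    ext w
    simp only [Set.mem_singleton_iff, Set.mem_compl_iff, Set.mem_iUnion, not_exists, Set.mem_sdiff]
    refine ⟨?_, fun hw => ?_⟩
    · rintro rfl W ⟨hW, hne⟩ hwW
      exact hne (le_antisymm (hZ.2 hW.1 (hy ▸ Set.singleton_subset_iff.2 hwW)) (hy ▸ Set.singleton_subset_iff.2 hwW))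
    · obtain ⟨W, hW, hwW⟩ : ∃ W ∈ irreducibleComponents F, w ∈ W :=
        ⟨irreducibleComponent w, irreducibleComponent_mem_irreducibleComponents w, mem_irreducibleComponent⟩
      by_contra hne
      refine hw W ⟨hW, fun he => hne ?_⟩ hwW
      rw [he, hy] at hwW
      exact hwW
  rw [h, isOpen_compl_iff]
  exact ((NoetherianSpace.finite_irreducibleComponents (α := F)).subset Set.sdiff_subset).isClosed_biUnion fun W hW =>
    isClosed_of_mem_irreducibleComponents W hW.1

theorem main {k : Type u} [Field k] {X Y : Scheme.{u}} (p : X ⟶ Spec (CommRingCat.of k)) [IsProper p]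
    [IsIntegral X] [IsIntegral Y] (hdim : topologicalKrullDim X = 2) (hdimY : topologicalKrullDim Y = 2)
    (hnorm : ∀ x : X, IsIntegrallyClosed (X.presheaf.stalk x)) (U : X.Opens) (hU : ((U : Set X)ᶜ).Finite)
    (φ : Y ⟶ X) [IsProper (φ ≫ p)] (hreg : ∀ y : Y, IsRegularLocalRing (Y.presheaf.stalk y))
    (hiso : IsIso (φ ∣_ U)) (x : X) (hx : ¬ IsRegularLocalRing (X.presheaf.stalk x)) :
    (φ.base ⁻¹' ({x} : Set X)).Nonempty ∧
      ∀ Z ∈ irreducibleComponents ↥(φ.base ⁻¹' ({x} : Set X)), topologicalKrullDim ↥Z = 1 := by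
  haveI := hiso
  haveI : IsProper φ := IsProper.of_comp φ p
  haveI : IsLocallyNoetherian X := LocallyOfFiniteType.isLocallyNoetherian p
  haveI : IsLocallyNoetherian Y := LocallyOfFiniteType.isLocallyNoetherian (φ ≫ p)
  haveI : CompactSpace X := QuasiCompact.compactSpace_of_compactSpace p
  haveI : CompactSpace Y := QuasiCompact.compactSpace_of_compactSpace (φ ≫ p)
  haveI : IsNoetherian X := ⟨⟩
  haveI : IsNoetherian Y := ⟨⟩
  haveI : JacobsonSpace X := LocallyOfFiniteType.jacobsonSpace p
  haveI : JacobsonSpace Y := LocallyOfFiniteType.jacobsonSpace (φ ≫ p)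
  have hne : (U : Set X).Nonempty := by
    by_contra h
    rw [Set.not_nonempty_iff_eq_empty] at h
    rw [h, Set.compl_empty] at hU
    haveI : Finite X := Set.finite_univ_iff.1 hU
    haveI : DiscreteTopology X := inferInstance
    have h2 := topologicalKrullDim_zero_of_discreteTopology X
    rw [hdim] at h2
    exact absurd h2 (by norm_num)
  have hWne : ((φ ⁻¹ᵁ U : Y.Opens) : Set Y).Nonempty := by
    obtain ⟨z, hz⟩ := hne
    exact ⟨((inv (φ ∣_ U)).base ⟨z, hz⟩).1, ((inv (φ ∣_ U)).base ⟨z, hz⟩).2⟩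
  have hbir : PurBirLib.Bir φ := PurBirLib.bir_of_open φ ⟨φ ⁻¹ᵁ U, hWne, by
    rw [← morphismRestrict_ι]; infer_instance⟩
  have key : ∀ y : Y, φ.base y = x → φ.QuasiFiniteAt y → False := fun y hy hq => by
    subst hy
    haveI := hnorm (φ.base y)
    haveI := hreg y
    exact hx (IsRegularLocalRing.of_ringEquiv (RingEquiv.ofBijective (φ.stalkMap y).hom
      ⟨PurBirLib.stalkMap_injective φ hbir y, PurBirLib.surjective_of_quasiFiniteAt φ hbir y hq⟩).symm)
  have hxU : x ∉ U := fun h => by
    let y : (φ ⁻¹ᵁ U : Y.Opens) := (inv (φ ∣_ U)).base ⟨x, h⟩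
    have hy : φ.base y.1 = x := by
      have e : (φ ∣_ U).base y = ⟨x, h⟩ := by
        simp only [y, ← Scheme.Hom.comp_apply, IsIso.inv_hom_id]; rfl
      have := congrArg (fun t : (U : Scheme.{u}) => U.ι.base t) e
      rwa [← Scheme.Hom.comp_apply, morphismRestrict_ι, Scheme.Hom.comp_apply] at this
    haveI := hreg y.1
    haveI : IsIso (φ.stalkMap y.1) := PurBirLib.isIso_stalkMap_of_iso φ ⟨φ ⁻¹ᵁ U, y.2, by
      rw [← morphismRestrict_ι]; infer_instance⟩
    rw [← hy] at hx
    exact hx (IsRegularLocalRing.of_ringEquiv (asIso (φ.stalkMap y.1)).commRingCatIsoToRingEquiv.symm)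
  have hxc : IsClosed ({x} : Set X) := isClosed_singleton_of_finite U.isOpen.isClosed_compl hU hxU
  haveI : IsDominant φ := ⟨by
    refine Dense.mono (fun z hz => ?_) (U.isOpen.dense hne)
    refine ⟨((inv (φ ∣_ U)).base ⟨z, hz⟩).1, ?_⟩
    have e : (φ ∣_ U).base ((inv (φ ∣_ U)).base ⟨z, hz⟩) = ⟨z, hz⟩ := by
      simp only [← Scheme.Hom.comp_apply, IsIso.inv_hom_id]; rfl
    have := congrArg (fun t : (U : Scheme.{u}) => U.ι.base t) e
    rwa [← Scheme.Hom.comp_apply, morphismRestrict_ι, Scheme.Hom.comp_apply] at this⟩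
  have hsurj : Function.Surjective φ.base := fun z => by
    have : Set.range φ.base = Set.univ := by
      rw [← φ.isClosedMap.isClosed_range.closure_eq]
      exact φ.denseRange.closure_range
    exact this.ge (Set.mem_univ z)
  have hgen : genericPoint X ≠ x := fun h =>
    hxU (h ▸ ((genericPoint_spec X).mem_open_set_iff U.2).2 (by simpa using hne))
  refine ⟨hsurj x, fun Z hZ => ?_⟩
  let F : Set Y := φ.base ⁻¹' {x}
  have hF : IsClosed F := hxc.preimage φ.continuous
  haveI : NoetherianSpace F := Topology.IsInducing.noetherianSpace (i := (Subtype.val : F → Y)) ⟨rfl⟩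
  haveI : IrreducibleSpace Z := Subtype.irreducibleSpace hZ.1
  have hemb : Topology.IsClosedEmbedding (fun z : Z => z.1.1) :=
    hF.isClosedEmbedding_subtypeVal.comp (isClosed_of_mem_irreducibleComponents Z hZ).isClosedEmbedding_subtypeVal
  have hlt : topologicalKrullDim Z < 2 := by
    rw [IsHomeomorph.topologicalKrullDim_eq _ hemb.isEmbedding.toHomeomorph.isHomeomorph, ← hdimY]
    refine Groth.Agent.S10830.result Y (by rw [hdimY]; exact ne_of_lt (show ((2 : ℕ∞) : WithBot ℕ∞) < ((⊤ : ℕ∞) : WithBot ℕ∞) from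
      WithBot.coe_lt_coe.2 (ENat.coe_lt_top 2)))
      _ hemb.isClosed_range fun h => hgen ?_
    obtain ⟨z, hz⟩ := h.ge (Set.mem_univ (genericPoint Y))
    have : φ.base (genericPoint Y) = x := hz ▸ z.1.2
    exact hbir.1.symm.trans this
  have hle : topologicalKrullDim Z ≤ 1 := by
    generalize topologicalKrullDim Z = d at hlt
    induction d with
    | bot => exact bot_le
    | coe e =>
      refine WithBot.coe_le_coe.2 (Order.le_of_lt_add_one ?_)
      exact WithBot.coe_lt_coe.1 hlt
  refine le_antisymm hle ?_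
  by_contra hlt'
  have h0 : topologicalKrullDim Z ≤ 0 := by
    rw [not_le] at hlt'
    generalize topologicalKrullDim Z = d at hlt'
    induction d with
    | bot => exact bot_le
    | coe e => exact WithBot.coe_le_coe.2 (Order.le_of_lt_add_one (by simpa using WithBot.coe_lt_coe.1 hlt'))
  haveI := subsingleton_of_dim_zero h0
  obtain ⟨⟨y, hyZ⟩⟩ := (inferInstance : Nonempty Z)
  have hopen : IsOpen ({y} : Set F) := isOpen_singleton_of_component hZ (Set.ext fun w =>
    ⟨fun hw => congrArg Subtype.val (Subsingleton.elim (⟨w, hw⟩ : Z) ⟨y, hyZ⟩), fun hw => by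
      rw [Set.mem_singleton_iff] at hw; rw [hw]; exact hyZ⟩)
  have hy : φ.base y.1 = x := y.2
  refine key y.1 hy (Scheme.Hom.quasiFiniteAt_iff_isOpen_singleton_asFiber.2 ?_)
  rw [← (φ.fiberHomeo (φ.base y.1)).isOpen_image]
  simp only [Set.image_singleton, Scheme.Hom.asFiber, Homeomorph.apply_symm_apply]
  let e : ↥(φ.base ⁻¹' {φ.base y.1}) ≃ₜ F := Homeomorph.setCongr (by rw [hy])
  rw [← e.isOpen_image, Set.image_singleton]
  exact hopen

end MonoidalFibLib
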